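import Groth.Agent.AmpleEmb.SectionsGe
import Groth.Agent.AmpleEmb.GenFinite
import Groth.Agent.AmpleEmb.Compose

/-!
# Sections embedding a scheme into projective space, and their pullbacks
-/

set_option autoImplicit false
set_option backward.isDefEq.respectTransparency false
set_option backward.isDefEq.respectTransparency.types false
set_option linter.style.haveILetI false

universe u

open CategoryTheory CategoryTheory.Limits AlgebraicGeometry TopologicalSpace Opposite
open Groth.Agent.PullbackMod Groth.Agent.DCohLib Groth.Agent.ParaFLib Groth.Agent.AmpleLib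

noncomputable section

namespace Groth.Agent.RelVALib

variable {X Y : Scheme.{u}}

/-- The ratio relation between two sections. -/
def IsRatio {P : X.Modules} (s s' : Coh.structureModule X ⟶ P) {U : X.Opens} (r : Γ(X, U)) : Prop :=
  r • resT (sec s) U = resT (sec s') U

/-- Sections whose loci are affine, cover, and whose ratios generate over the functions on `Y`. -/
structure EmbGen (q : X ⟶ Y) {P : X.Modules} {n : ℕ} (s : Fin (n + 1) → (Coh.structureModule X ⟶ P)) : Prop where
  affine : ∀ a, IsAffineOpen (CohB1.genLocus P (s a))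
  cover : ∀ x : X, ∃ a, x ∈ CohB1.genLocus P (s a)
  surj : ∀ (a : Fin (n + 1)) (t : Fin (n + 1) → Γ(X, CohB1.genLocus P (s a))),
    (∀ b, IsRatio (s a) (s b) (t b)) →
      Function.Surjective (MvPolynomial.eval₂Hom
        (q.appLE ⊤ (CohB1.genLocus P (s a)) (fun _ _ => trivial)).hom t)

theorem genLocus_smul_app {P P' : X.Modules} (hP : PicF.IsInvertible P) (hP' : PicF.IsInvertible P')
    (θ : P ≅ P') {β : Γ(X, ⊤)} (hβ : IsUnit β) {s : Coh.structureModule X ⟶ P}
    {s' : Coh.structureModule X ⟶ P'} (h : sec s' = β • θ.hom.app ⊤ (sec s)) :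
    CohB1.genLocus P' s' = CohB1.genLocus P s := by
  ext x
  show x ∈ CohB1.genLocus P' s' ↔ x ∈ CohB1.genLocus P s
  rw [mem_genLocus_iff hP', mem_genLocus_iff hP, h, germ_smul', ← stalkLin_germ θ.hom]
  set e := P.presheaf.germ ⊤ x trivial (sec s)
  have hb : Function.Bijective (stalkLin θ.hom x) := (isIso_iff_stalk θ.hom).1 inferInstance x
  obtain ⟨b, hb'⟩ := hβ.map (X.presheaf.germ ⊤ x trivial).hom
  rw [← hb']
  have he : (fun r : X.presheaf.stalk x => r • (b : X.presheaf.stalk x) • stalkLin θ.hom x e) =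
      stalkLin θ.hom x ∘ (fun r : X.presheaf.stalk x => r • e) ∘ fun r : X.presheaf.stalk x => r * b :=
    funext fun r => by
      rw [Function.comp_apply, Function.comp_apply, smul_smul, map_smul]
  rw [he]
  have hm : Function.Bijective fun r : X.presheaf.stalk x => r * b := Units.mulRight_bijective b
  exact ⟨fun h1 => (Function.Bijective.of_comp_iff _ hm).1 ((Function.Bijective.of_comp_iff' hb _).1 h1),
    fun h1 => hb.comp (h1.comp hm)⟩

theorem isRatio_smul_app {P P' : X.Modules} (θ : P ≅ P') {β : Γ(X, ⊤)} (hβ : IsUnit β)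
    {s₁ s₂ : Coh.structureModule X ⟶ P} {s₁' s₂' : Coh.structureModule X ⟶ P'}
    (h₁ : sec s₁' = β • θ.hom.app ⊤ (sec s₁)) (h₂ : sec s₂' = β • θ.hom.app ⊤ (sec s₂))
    {U : X.Opens} (r : Γ(X, U)) : IsRatio s₁' s₂' r ↔ IsRatio s₁ s₂ r := by
  have key : ∀ {t : Coh.structureModule X ⟶ P} {t' : Coh.structureModule X ⟶ P'},
      sec t' = β • θ.hom.app ⊤ (sec t) → resT (sec t') U =
        X.presheaf.map (homOfLE (le_top : U ≤ ⊤)).op β • θ.hom.app U (resT (sec t) U) := fun {t t'} h => by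
    rw [resT, h, P'.map_smul]
    congr 1
    exact (congr($(θ.hom.mapPresheaf.naturality (homOfLE (le_top : U ≤ ⊤)).op) (sec t))).symm
  rw [IsRatio, IsRatio, key h₁, key h₂, smul_comm, ← Scheme.Modules.Hom.app_smul]
  refine ⟨fun h => ?_, fun h => by rw [h]⟩
  have h2 := (hβ.map (X.presheaf.map (homOfLE (le_top : U ≤ ⊤)).op).hom).smul_left_cancel.1 h
  exact (ConcreteCategory.bijective_of_isIso (θ.hom.app U)).1 h2

theorem EmbGen.congr {q : X ⟶ Y} {P P' : X.Modules} (hP : PicF.IsInvertible P) (hP' : PicF.IsInvertible P') {n : ℕ}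
    {s : Fin (n + 1) → (Coh.structureModule X ⟶ P)} {s' : Fin (n + 1) → (Coh.structureModule X ⟶ P')}
    (θ : P ≅ P') {β : Γ(X, ⊤)} (hβ : IsUnit β) (h : ∀ a, sec (s' a) = β • θ.hom.app ⊤ (sec (s a)))
    (hs : EmbGen q s) : EmbGen q s' := by
  have hl : ∀ a, CohB1.genLocus P' (s' a) = CohB1.genLocus P (s a) := fun a =>
    genLocus_smul_app hP hP' θ hβ (h a)
  refine ⟨fun a => (hl a).symm ▸ hs.affine a, fun x => (hs.cover x).imp fun a ha => (hl a).ge ha, fun a => ?_⟩
  suffices key : ∀ U : X.Opens, U = CohB1.genLocus P (s a) → ∀ t : Fin (n + 1) → Γ(X, U),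
      (∀ b, IsRatio (s' a) (s' b) (t b)) →
        Function.Surjective (MvPolynomial.eval₂Hom (q.appLE ⊤ U (fun _ _ => trivial)).hom t) from key _ (hl a)
  rintro U rfl t ht
  exact hs.surj a t fun b => (isRatio_smul_app θ hβ (h a) (h b) _).1 (ht b)

theorem EmbGen.isClosedImmersion [IsAffine Y] {q : X ⟶ Y} [IsProper q] {P : X.Modules} (hP : PicF.IsInvertible P)
    {n : ℕ} {s : Fin (n + 1) → (Coh.structureModule X ⟶ P)} (h : EmbGen q s)
    (t : ∀ a, Fin (n + 1) → Γ(X, CohB1.genLocus P (s a))) (ht : ∀ a b, IsRatio (s a) (s b) (t a b)) :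
    IsClosedImmersion (AmpleEmb.toProjOver q (AmpleEmb.familyOfSections hP s h.affine h.cover t ht)) := by
  set F := AmpleEmb.familyOfSections hP s h.affine h.cover t ht
  haveI : IsImmersion (AmpleEmb.toProjOver q F) :=
    AmpleEmb.isImmersion_toProjOver q F Set.univ
      (fun i _ => ⟨⊤, isAffineOpen_top Y, fun _ _ => trivial, h.surj i (t i) (ht i)⟩)
      (fun x => (h.cover x).imp fun a ha => ⟨trivial, ha⟩)
  haveI : IsProper (AmpleEmb.toProjOver q F ≫ CohB1.ProjSpaceOver.toBase n Y) := by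
    rw [AmpleEmb.toProjOver_toBase]; infer_instance
  haveI := IsProper.of_comp (AmpleEmb.toProjOver q F) (CohB1.ProjSpaceOver.toBase n Y)
  exact (IsClosedImmersion.iff_isProper_and_mono _).2 ⟨inferInstance, inferInstance⟩

/-! ### Pullbacks -/

variable {X' : Scheme.{u}} (g : X' ⟶ X)

/-- The pullback of a section, through sections. -/
def pullSec {P : X.Modules} (s : Coh.structureModule X ⟶ P) :
    Coh.structureModule X' ⟶ (Scheme.Modules.pullback g).obj P :=
  DCohLib.secHom _ (pullMap g P (W := ⊤) (W' := ⊤) (fun _ _ => trivial) (sec s))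

theorem sec_pullSec {P : X.Modules} (s : Coh.structureModule X ⟶ P) :
    sec (pullSec g s) = pullMap g P (W := ⊤) (W' := ⊤) (fun _ _ => trivial) (sec s) :=
  sec_secHom _

theorem genLocus_pullSec {P : X.Modules} (hP : PicF.IsInvertible P) (s : Coh.structureModule X ⟶ P) :
    CohB1.genLocus _ (pullSec g s) = g ⁻¹ᵁ CohB1.genLocus P s := by
  haveI := InvExt.isQCoh_of_isInvertible hP
  ext x
  show x ∈ CohB1.genLocus _ (pullSec g s) ↔ g x ∈ CohB1.genLocus P s
  rw [mem_genLocus_iff (isInvertible_pullback g hP), mem_genLocus_iff hP, sec_pullSec,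
    ← pullStalk_germ' g P x (show g x ∈ (⊤ : X.Opens) from trivial) (W' := ⊤) trivial (fun _ _ => trivial)]
  obtain ⟨e, he⟩ := exists_stalk_gen hP (g x)
  obtain ⟨a, ha⟩ := he.2 (P.presheaf.germ ⊤ (g x) trivial (sec s))
  change a • e = _ at ha
  rw [← ha, pullStalk_smul, bijective_smul_iff (bijective_pullStalk g x he), bijective_smul_iff he]
  exact ⟨fun h => isUnit_of_map_unit (g.stalkMap x).hom a h, fun h => h.map (g.stalkMap x).hom⟩

theorem isRatio_pullSec {P : X.Modules} {s s' : Coh.structureModule X ⟶ P} {U : X.Opens} {U' : X'.Opens}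
    (hU : U' ≤ g ⁻¹ᵁ U) {r : Γ(X, U)} (h : IsRatio s s' r) :
    IsRatio (pullSec g s) (pullSec g s') (g.appLE U U' hU r) := by
  have e : ∀ t : Coh.structureModule X ⟶ P, resT (sec (pullSec g t)) U' = pullMap g P hU (resT (sec t) U) :=
    fun t => by
      rw [resT, sec_pullSec]
      exact pullMap_res g P _ le_top le_top hU (sec t)
  rw [IsRatio, e, e, ← pullMap_smul, h]

theorem intConst_appLE {U : X.Opens} {U' : X'.Opens} (hU : U' ≤ g ⁻¹ᵁ U) (r : ULift.{u} ℤ) :
    g.appLE U U' hU (AmpleEmb.constV (AmpleEmb.intConst X) U r) =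
      AmpleEmb.constV (AmpleEmb.intConst X') U' r := by
  show ((g.appLE U U' hU).hom.comp ((X.presheaf.map (homOfLE (le_top : U ≤ ⊤)).op).hom.comp (Int.castRingHom _)))
      r.down = ((X'.presheaf.map (homOfLE (le_top : U' ≤ ⊤)).op).hom.comp (Int.castRingHom _)) r.down
  exact RingHom.congr_fun (RingHom.ext_int _ _) r.down

/-- The morphism to projective space of pulled back sections. -/
theorem toProj_pullback {n : ℕ} (F : GenMorph.RatioFamily X n) (F' : AmpleEmb.RatioFamily X' n)
    (hU : ∀ a, F'.U a ≤ g ⁻¹ᵁ F.U a) (ht : ∀ a b, F'.t a b = g.appLE (F.U a) (F'.U a) (hU a) (F.t a b)) :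
    AmpleEmb.toProj (AmpleEmb.intConst X') F' = g ≫ GenMorph.toProj (AmpleEmb.intConst X) F := by
  refine (X'.openCoverOfIsOpenCover F'.U F'.cover).hom_ext _ _ fun i => ?_
  show (F'.U i).ι ≫ _ = (F'.U i).ι ≫ _
  rw [AmpleEmb.ι_toProj, ← Category.assoc, ← Scheme.Hom.resLE_comp_ι g (hU i), Category.assoc,
    GenMorph.ι_toProj, AmpleEmb.piece, GenMorph.piece, ← Category.assoc (g.resLE _ _ _),
    ← Scheme.Opens.toSpecΓ_SpecMap_appLE, Category.assoc]
  refine congrArg ((F'.U i).toSpecΓ ≫ ·) ?_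
  letI : Algebra (ULift.{u} ℤ) Γ(X, F.U i) := (AmpleEmb.constV (AmpleEmb.intConst X) (F.U i)).toAlgebra
  letI : Algebra (ULift.{u} ℤ) Γ(X', F'.U i) := (AmpleEmb.constV (AmpleEmb.intConst X') (F'.U i)).toAlgebra
  refine Eq.trans ?_ (ProjMap.specMap_point (g.appLE (F.U i) (F'.U i) (hU i)).hom
    (intConst_appLE g (hU i)) (F.t i) i (F.t_self i ▸ isUnit_one)).symm
  have e : F'.t i = fun b => g.appLE (F.U i) (F'.U i) (hU i) (F.t i b) := funext (ht i)
  show ProjMap.point (F'.t i) i _ = _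
  congr 1

end Groth.Agent.RelVALib
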