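import Groth.Agent.RelVALib.CurveNhd
import Groth.Agent.GenBCLib.RankGoal
import Groth.Agent.ExactConstrLib.LocFree
import Groth.Agent.S5728

/-!
# Pluricanonical modules of curves of genus at least two
-/

set_option autoImplicit false
set_option backward.isDefEq.respectTransparency false
set_option backward.isDefEq.respectTransparency.types false
set_option backward.defeqAttrib.useBackward true
set_option linter.style.haveILetI false
set_option maxHeartbeats 1000000

universe u

open CategoryTheory CategoryTheory.Limits AlgebraicGeometry TopologicalSpace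
open Groth.Agent.PullbackMod

noncomputable section

namespace Groth.Agent.RelVALib

variable {X S : Scheme.{u}}

/-- The fibre over its residue field. -/
local instance fibreOverOf' {C S : Scheme.{u}} (f : C ⟶ S) (s : S) :
    (f.fiber s).Over (Spec (CommRingCat.of (S.residueField s))) := ⟨f.fiberToSpecResidueField s⟩

theorem deg_tensorPow_omega (f : X ⟶ S) [IsProper f] [Smooth f] [GeometricallyConnected f]
    (hdim : ∀ s : S, topologicalKrullDim ↥(f.fiber s) = 1) (n : ℕ) (s : S) :
    Curv2.deg (S.residueField s) (f.fiber s)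
      ((Scheme.Modules.pullback (f.fiberι s)).obj (CohB1.tensorPow (Omega.sheaf f) n)) 1 =
        n * (2 * (Curv2.genus (S.residueField s) (f.fiber s) : ℤ) - 2) := by
  obtain ⟨hp, hs, hi, h0⟩ := CurveFamLib.fibre_setup f s
  haveI := hp; haveI := hs; haveI := hi
  haveI := EulerIneqLib.isNoetherian_proper (X := f.fiber s) (S.residueField s)
  haveI := VBLib.isRegCurve_of_smooth (S.residueField s) (X := f.fiber s) (hdim s).le
  have hW := CurveFF.omega_invertible_of_smooth (S.residueField s) (hdim s) h0
  obtain ⟨φ⟩ := CurveFamLib.nonempty_fibre_omega f s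
  rw [CurveLib.deg_iso (k := S.residueField s)
      (AmpleLib.pullPow (f.fiberι s) (Omega.sheaf f) n ≪≫ AmpleLib.powCongr φ n) 1,
    CurveLib.deg_tensorPow (k := S.residueField s) (hdim s).le hW n,
    (CurveFF.omega_deg_h0 (S.residueField s) (hdim s) h0).1]

theorem two_genus_add_one_le (f : X ⟶ S) [IsProper f] [Smooth f] [GeometricallyConnected f]
    (hdim : ∀ s : S, topologicalKrullDim ↥(f.fiber s) = 1) {n : ℕ} (hn : 3 ≤ n) (s : S)
    (hg : 2 ≤ Curv2.genus (S.residueField s) (f.fiber s)) :
    2 * (Curv2.genus (S.residueField s) (f.fiber s) : ℤ) + 1 ≤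
      Curv2.deg (S.residueField s) (f.fiber s)
        ((Scheme.Modules.pullback (f.fiberι s)).obj (CohB1.tensorPow (Omega.sheaf f) n)) 1 := by
  rw [deg_tensorPow_omega f hdim n s]
  have h1 : (3 : ℤ) ≤ n := by exact_mod_cast hn
  have h2 : (2 : ℤ) ≤ (Curv2.genus (S.residueField s) (f.fiber s) : ℤ) := by exact_mod_cast hg
  nlinarith

/-- The direct image is locally free when the fibres have no `H¹`. -/
theorem isFinLocFree_push (f : X ⟶ S) [IsProper f] [LocallyOfFinitePresentation f] [Flat f] {L : X.Modules}
    (hL : PicF.IsInvertible L) (h1 : ∀ s, Subsingleton (CohIII.fiberH f L s 1)) :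
    FlatMod.IsFinLocFree ((Scheme.Modules.pushforward f).obj L) := by
  obtain ⟨hq, hfp⟩ := isQCoh_and_isFP_of_isFinLocFree L (CurveLib.isFinLocFree_of_isInvertible hL)
  haveI := hq
  haveI : Coh.IsQCoh ((Scheme.Modules.pushforward f).obj L) := QCohLib.isQCoh_pushforward L f
  refine GenBCLib.isFinLocFree_of_nhds _ fun s => ?_
  obtain ⟨V, D, hsV⟩ := GenBCLib.exists_dat_at hfp
    (TildePerf.isFlatOver_of_isFinLocFree f (CurveLib.isFinLocFree_of_isInvertible hL)) s
  haveI := GenSeesawLib.isIso_bc0_fibre f (CurveLib.isFinLocFree_of_isInvertible hL) s (h1 s)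
  obtain ⟨a, ha, hga⟩ := D.exists_good hsV ((D.epi_bc0_iff_surjAt hsV).1 inferInstance)
  exact ⟨S.basicOpen a, ha, D.isFinLocFree_restrict_of_good hga⟩

end Groth.Agent.RelVALib
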