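import Groth.Agent.RelVALib.CurveSep
import Groth.Agent.RelVALib.EmbGen
import Groth.Agent.ClImmLib.Crit
import Groth.Agent.AmpleLib.FinProd

/-!
# Spanning sections of a module of degree above `2g` embed a curve
-/

set_option autoImplicit false
set_option backward.isDefEq.respectTransparency false
set_option backward.isDefEq.respectTransparency.types false
set_option linter.style.haveILetI false
set_option maxHeartbeats 1000000

universe u

open CategoryTheory CategoryTheory.Limits AlgebraicGeometry TopologicalSpace Opposite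
open Groth.Agent.PullbackMod Groth.Agent.DCohLib Groth.Agent.ParaFLib Groth.Agent.AmpleLib

noncomputable section

namespace Groth.Agent.RelVALib

variable {K : Type u} [Field K] {X : Scheme.{u}}

/-- A linear combination of sections. -/
abbrev lin (pX : X ⟶ Spec (CommRingCat.of K)) {L : X.Modules} {n : ℕ}
    (s : Fin (n + 1) → (Coh.structureModule X ⟶ L)) (c : Fin (n + 1) → K) : Γ(L, ⊤) :=
  ∑ a, ProjUP.toGlobal pX (c a) • sec (s a)

theorem germ_lin (pX : X ⟶ Spec (CommRingCat.of K)) {L : X.Modules} {n : ℕ}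
    (s : Fin (n + 1) → (Coh.structureModule X ⟶ L)) (c : Fin (n + 1) → K) {U : X.Opens} (j : Fin (n + 1))
    (t : Fin (n + 1) → Γ(X, U)) (ht : ∀ a, IsRatio (s j) (s a) (t a)) (x : X) (hx : x ∈ U) :
    L.presheaf.germ ⊤ x trivial (lin pX s c) =
      (∑ a, X.presheaf.germ ⊤ x trivial (ProjUP.toGlobal pX (c a)) * X.presheaf.germ U x hx (t a)) •
        L.presheaf.germ ⊤ x trivial (sec (s j)) := by
  rw [lin, map_sum, Finset.sum_smul]
  refine Finset.sum_congr rfl fun a _ => ?_
  rw [germ_smul', mul_smul]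
  congr 1
  have h := congrArg (L.presheaf.germ U x hx) (ht a)
  rw [germ_smul', resT, resT, TopCat.Presheaf.germ_res_apply, TopCat.Presheaf.germ_res_apply] at h
  exact h.symm

theorem smul_sum_mem {R M : Type*} [CommRing R] [AddCommGroup M] [Module R M] {g : M} {m : Ideal R}
    (hg : Function.Bijective fun r : R => r • g) (w : R) : w • g ∈ m • (⊤ : Submodule R M) ↔ w ∈ m := by
  have htop : (⊤ : Submodule R M) = Submodule.span R {g} :=
    (eq_top_iff.2 fun z _ => Submodule.mem_span_singleton.2 (hg.2 z)).symm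
  rw [htop, Submodule.mem_smul_span_singleton]
  exact ⟨fun ⟨r, hr, h⟩ => hg.1 h ▸ hr, fun h => ⟨w, h, rfl⟩⟩

/-- Spanning sections of a module of degree above `2g` on a smooth curve embed it. -/
theorem embGen_of_span [IsAlgClosed K] [X.Over (Spec (CommRingCat.of K))] [IsProper (X ↘ Spec (CommRingCat.of K))]
    [IsIntegral X] [VBLib.IsRegCurve X] (hdim : topologicalKrullDim X = 1) {L : X.Modules} (hL : PicF.IsInvertible L)
    (hdeg : 2 * (Curv2.genus K X : ℤ) + 1 ≤ Curv2.deg K X L 1) {n : ℕ}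
    (s : Fin (n + 1) → (Coh.structureModule X ⟶ L))
    (hspan : ∀ σ : Γ(L, ⊤), ∃ c : Fin (n + 1) → K, σ = lin (X ↘ Spec (CommRingCat.of K)) s c) :
    EmbGen (X ↘ Spec (CommRingCat.of K)) s := by
  classical
  set pX := X ↘ Spec (CommRingCat.of K)
  have hcov : ∀ x, ∃ a, x ∈ CohB1.genLocus L (s a) := by
    intro x
    obtain ⟨τ, hτ⟩ := AmpleLib.exists_genLocus_of_isGloballyGenerated hL
      (CurveFF.isGloballyGenerated_of_deg hdim (CurveFF.h0_eq_one K hdim) hL (by omega)) x
    by_contra hne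
    push Not at hne
    obtain ⟨c, hc⟩ := hspan (sec τ)
    obtain ⟨e, he⟩ := exists_stalk_gen hL x
    choose r hr using fun a => he.2 (L.presheaf.germ ⊤ x trivial (sec (s a)))
    have hrm : ∀ a, r a ∈ IsLocalRing.maximalIdeal (X.presheaf.stalk x) := fun a hu => hne a (by
      rw [mem_genLocus_iff hL, ← hr a, bijective_smul_iff he]; exact hu)
    have h2 : L.presheaf.germ ⊤ x trivial (sec τ) =
        (∑ a, X.presheaf.germ ⊤ x trivial (ProjUP.toGlobal pX (c a)) * r a) • e := by
      rw [hc, lin, map_sum, Finset.sum_smul]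
      exact Finset.sum_congr rfl fun a _ => by rw [germ_smul', mul_smul, ← hr a]
    rw [mem_genLocus_iff hL, h2, bijective_smul_iff he] at hτ
    exact (Ideal.sum_mem _ fun a _ => Ideal.mul_mem_left _ _ (hrm a) :
      _ ∈ IsLocalRing.maximalIdeal (X.presheaf.stalk x)) hτ
  obtain ⟨F, hFU, hFg, hFt⟩ := GenMorph.exists_ratioFamily hL s hcov
  let φ : K →+* Γ(X, ⊤) := ProjUP.toGlobal pX
  let f := GenMorph.toProj φ F
  have hf : f ≫ CohB1.ProjSpace.toSpec n K = pX := GenMorph.toProj_toSpec φ F pX rfl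
  have hD : ∀ j P, f P ∈ ClImmLib.D (k := K) j ↔ P ∈ F.U j := fun j P => by
    rw [← GenMorph.preimage_basicOpen φ F j]; rfl
  have hcomb : ∀ (c : Fin (n + 1) → K) (j : Fin (n + 1)) (P : X) (hP : f P ∈ ClImmLib.D (k := K) j),
      ∃ w : X.presheaf.stalk P, (ClImmLib.LF f).presheaf.germ ⊤ P trivial (ClImmLib.comb pX f c) = w • ClImmLib.gen f j P hP ∧
        L.presheaf.germ ⊤ P trivial (lin pX s c) = w • L.presheaf.germ ⊤ P trivial (sec (s j)) := by
    intro c j P hP
    refine ⟨_, ClImmLib.germ_comb hf c j P hP, (germ_lin pX s c j (F.t j) (hFt j) P ((hD j P).1 hP)).trans ?_⟩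
    rw [map_sum]
    congr 1
    refine Finset.sum_congr rfl fun a _ => ?_
    rw [map_mul]
    congr 1
    · rw [ClImmLib.cst, RingHom.comp_apply, Scheme.Hom.germ_stalkMap_apply]
      show X.presheaf.germ ⊤ P trivial (ProjUP.toGlobal pX (c a)) =
        X.presheaf.germ ⊤ P trivial (f.appTop (ProjUP.toGlobal (CohB1.ProjSpace.toSpec n K) (c a)))
      congr 1
      rw [← hf]
      rfl
    · rw [ClImmLib.ρ, Scheme.Hom.germ_stalkMap_apply, Scheme.Hom.app_eq_appLE]
      have h := congrArg (X.presheaf.germ (F.U j) P ((hD j P).1 hP)) (GenMorph.toProj_appLE_ratio φ F j a)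
      refine h.symm.trans ?_
      rw [Scheme.Hom.appLE, Scheme.Hom.appLE, ConcreteCategory.comp_apply, ConcreteCategory.comp_apply,
        TopCat.Presheaf.germ_res_apply, TopCat.Presheaf.germ_res_apply]
      rfl
  have hgenj : ∀ j P, P ∈ F.U j →
      Function.Bijective fun r : X.presheaf.stalk P => r • L.presheaf.germ ⊤ P trivial (sec (s j)) :=
    fun j P h => (mem_genLocus_iff hL).1 ((hFU j).le h)
  haveI : IsClosedImmersion f := by
    refine ClImmLib.isClosedImmersion_of_sep hf (fun P Q hP hQ hne => ?_) fun P hP => ?_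
    · obtain ⟨σ, h1, h2⟩ := exists_sep_section hdim hL hdeg hP hQ
      obtain ⟨c, rfl⟩ := hspan σ
      refine ⟨c, Or.inl ⟨?_, fun hv => ?_⟩⟩
      · obtain ⟨j, hj⟩ := ClImmLib.exists_mem_D (f P)
        obtain ⟨w, hw1, hw2⟩ := hcomb c j P hj
        rw [hw1, ClImmLib.vanish, smul_sum_mem (ClImmLib.bijective_gen f j P hj)]
        exact (h1 _ w (hgenj j P ((hD j P).1 hj)) hw2).1
      · obtain ⟨j, hj⟩ := ClImmLib.exists_mem_D (f Q)
        obtain ⟨w, hw1, hw2⟩ := hcomb c j Q hj
        rw [hw1, ClImmLib.vanish, smul_sum_mem (ClImmLib.bijective_gen f j Q hj)] at hv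
        have hb := h2 (Ne.symm hne)
        rw [hw2, bijective_smul_iff (hgenj j Q ((hD j Q).1 hj))] at hb
        exact hv hb
    · obtain ⟨σ, h1, -⟩ := exists_sep_section hdim hL hdeg hP hP
      obtain ⟨c, rfl⟩ := hspan σ
      obtain ⟨j, hj⟩ := ClImmLib.exists_mem_D (f P)
      obtain ⟨w, hw1, hw2⟩ := hcomb c j P hj
      obtain ⟨hwm, hw2'⟩ := h1 _ w (hgenj j P ((hD j P).1 hj)) hw2
      haveI := CurveFF.isDVR K hdim hP
      have hspanw : IsLocalRing.maximalIdeal (X.presheaf.stalk P) ≤ Ideal.span {w} := by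
        obtain ⟨ϖ, hϖ⟩ := IsDiscreteValuationRing.exists_irreducible (X.presheaf.stalk P)
        rw [hϖ.maximalIdeal_eq] at hwm ⊢
        obtain ⟨b, rfl⟩ := Ideal.mem_span_singleton.1 hwm
        have hb : IsUnit b := by
          by_contra hb
          refine hw2' rfl ?_
          rw [pow_two, hϖ.maximalIdeal_eq]
          exact Ideal.mul_mem_mul (Ideal.mem_span_singleton_self ϖ)
            (by rw [← hϖ.maximalIdeal_eq]; exact hb)
        rw [Ideal.span_singleton_mul_right_unit hb]
      refine le_trans (Submodule.smul_le.2 fun r hr v _ => ?_) le_sup_left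
      obtain ⟨b, rfl⟩ := Ideal.mem_span_singleton.1 (hspanw hr)
      obtain ⟨q, rfl⟩ := (ClImmLib.bijective_gen f j P hj).2 v
      rw [smul_smul, mul_assoc, mul_comm, ← smul_smul, ← hw1]
      refine Submodule.smul_mem _ _ (Submodule.subset_span ⟨c, rfl, ?_⟩)
      rw [hw1, ClImmLib.vanish, smul_sum_mem (ClImmLib.bijective_gen f j P hj)]
      exact hwm
  have haff : ∀ i, IsAffineOpen (F.U i) := fun i => by
    rw [← GenMorph.preimage_basicOpen φ F i]
    exact (AmpleEmb.isAffineOpen_stdOpen n K i).preimage f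
  let F' : AmpleEmb.RatioFamily X n :=
    { U := F.U, affine := haff, cover := F.cover, t := F.t, t_self := F.t_self, t_open := F.t_open, t_mul := F.t_mul }
  haveI : IsClosedImmersion (AmpleEmb.toProj φ F') := by
    have : AmpleEmb.toProj φ F' = f := by
      refine (X.openCoverOfIsOpenCover F'.U F'.cover).hom_ext _ _ fun i => ?_
      show (F'.U i).ι ≫ _ = (F.U i).ι ≫ f
      rw [AmpleEmb.ι_toProj, GenMorph.ι_toProj]
      rfl
    rw [this]; infer_instance
  refine ⟨fun a => (hFU a) ▸ haff a, hcov, fun a => ?_⟩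
  suffices key : ∀ U : X.Opens, U = F.U a → ∀ t : Fin (n + 1) → Γ(X, U), (∀ b, IsRatio (s a) (s b) (t b)) →
      Function.Surjective (MvPolynomial.eval₂Hom (pX.appLE ⊤ U (fun _ _ => trivial)).hom t) from key _ (hFU a).symm
  rintro U rfl t ht
  have htF : t = F.t a := funext fun b => (hFg a _ le_rfl).1 (by
    simp only [ParaFLib.res_self]
    exact (ht b).trans (hFt a b).symm)
  subst htF
  intro y
  obtain ⟨p, hp⟩ := AmpleEmb.genAt_of_isClosedImmersion φ F' a y
  refine ⟨MvPolynomial.map (Scheme.ΓSpecIso (CommRingCat.of K)).inv.hom p, ?_⟩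
  rw [MvPolynomial.eval₂Hom_map_hom]
  exact hp

end Groth.Agent.RelVALib
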