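import Groth.Agent.CurveFF.Sections
import Groth.Agent.FF.AlgClosed

/-!
# Sections of modules of large degree separate points and tangent vectors of a curve
-/

set_option autoImplicit false
set_option backward.isDefEq.respectTransparency false
set_option backward.isDefEq.respectTransparency.types false
set_option linter.style.haveILetI false
set_option maxHeartbeats 1000000

universe u

open CategoryTheory CategoryTheory.Limits AlgebraicGeometry TopologicalSpace Opposite
open scoped WithZero

noncomputable section

namespace Groth.Agent.RelVALib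

open Groth.Agent.CurveFF

attribute [local instance] Curv2.stalkAlgebra
attribute [local instance high] FunFld.Place.algRes

variable {k : Type u} [Field k] [IsAlgClosed k] {X : Scheme.{u}} [X.Over (Spec (CommRingCat.of k))]
  [IsProper (X ↘ Spec (CommRingCat.of k))] [IsIntegral X] [VBLib.IsRegCurve X]
  (hdim : topologicalKrullDim X = 1)
include hdim

theorem exists_coord_of_gen {L : X.Modules} (hL : PicF.IsInvertible L) {e : L.presheaf.stalk (genericPoint X)}
    (he : IsBase L e) {D : FunFld.Divisor k X.functionField} (hD : IsDiv k hdim L e D) {x : X}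
    (hx : IsClosed ({x} : Set X)) {g : L.presheaf.stalk x}
    (hg : Function.Bijective fun r : X.presheaf.stalk x => r • g) :
    ∃ G : X.functionField, spec L x g = (G : X.presheaf.stalk (genericPoint X)) • e ∧
      (placeOf k hdim x hx).1 G = WithZero.exp (D (placeOf k hdim x hx)) := by
  obtain ⟨G, hG⟩ := he.2 (spec L x g)
  refine ⟨G, hG.symm, le_antisymm ((hD x hx G).1 ⟨g, hG.symm⟩) ?_⟩
  obtain ⟨f, hf⟩ := exists_placeVal hdim (P := placeOf k hdim x hx) (D (placeOf k hdim x hx))
  obtain ⟨z, hz⟩ := (hD x hx f).2 hf.le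
  obtain ⟨r, rfl⟩ := hg.2 z
  have hr : (algebraMap (X.presheaf.stalk x) X.functionField r * (G : X.functionField) : X.functionField) = f :=
    he.1 (show _ • e = _ • e by rw [← hz, spec_smul, ← hG, smul_smul])
  rw [← hf, ← hr, map_mul]
  exact mul_le_of_le_one_left' ((placeOf_le_one_iff hdim hx _).2 ⟨r, rfl⟩)

theorem val_coe_le_exp_neg_two {x : X} (hx : IsClosed ({x} : Set X)) {w : X.presheaf.stalk x}
    (hw : w ∈ IsLocalRing.maximalIdeal (X.presheaf.stalk x) ^ 2) :
    (placeOf k hdim x hx).1 (algebraMap (X.presheaf.stalk x) X.functionField w) ≤ WithZero.exp (-2 : ℤ) := by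
  set v := (placeOf k hdim x hx).1
  have h1 : ∀ a ∈ IsLocalRing.maximalIdeal (X.presheaf.stalk x),
      v (algebraMap (X.presheaf.stalk x) X.functionField a) ≤ WithZero.exp (-1 : ℤ) := fun a ha => by
    haveI := isDVR k hdim hx
    have h := (IsDedekindDomain.HeightOneSpectrum.valuation_lt_one_iff_mem (K := X.functionField)
      (IsDiscreteValuationRing.maximalIdeal (X.presheaf.stalk x)) a).2 ha
    rcases eq_or_ne (algebraMap (X.presheaf.stalk x) X.functionField a) 0 with h0 | h0
    · rw [h0, map_zero]; exact zero_le'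
    · have h2 : v (algebraMap (X.presheaf.stalk x) X.functionField a) < WithZero.exp 0 := by
        rw [WithZero.exp_zero]; exact h
      rw [FF.v_eq_exp _ h0, WithZero.exp_lt_exp] at h2
      rw [FF.v_eq_exp _ h0, WithZero.exp_le_exp]
      omega
  rw [pow_two] at hw
  refine Submodule.mul_induction_on hw (fun a ha b hb => ?_) fun a b ha hb => ?_
  · rw [map_mul, map_mul, show (-2 : ℤ) = -1 + -1 from rfl, WithZero.exp_add]
    exact mul_le_mul' (h1 a ha) (h1 b hb)
  · rw [map_add]
    exact v.map_add_le ha hb

/-- Sections of a module of degree above `2g` separate points and tangent vectors. -/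
theorem exists_sep_section {L : X.Modules} (hL : PicF.IsInvertible L)
    (hdeg : 2 * (Curv2.genus k X : ℤ) + 1 ≤ Curv2.deg k X L 1) {x y : X} (hx : IsClosed ({x} : Set X))
    (hy : IsClosed ({y} : Set X)) :
    ∃ σ : Γ(L, ⊤),
      (∀ (g : L.presheaf.stalk x) (w : X.presheaf.stalk x), Function.Bijective (fun r : X.presheaf.stalk x => r • g) →
        L.presheaf.germ ⊤ x trivial σ = w • g →
          w ∈ IsLocalRing.maximalIdeal (X.presheaf.stalk x) ∧
            (y = x → w ∉ IsLocalRing.maximalIdeal (X.presheaf.stalk x) ^ 2)) ∧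
      (y ≠ x → Function.Bijective fun r : X.presheaf.stalk y => r • L.presheaf.germ ⊤ y trivial σ) := by
  classical
  have h0 := h0_eq_one k hdim
  have hK := isFunctionField k hdim h0
  obtain ⟨e, he⟩ := exists_base hL
  obtain ⟨D, hD⟩ := exists_isDiv hdim h0 hL he
  obtain ⟨hg, hd⟩ := genus_and_deg hdim h0 hL he hD
  set P := placeOf k hdim x hx
  set Q := placeOf k hdim y hy
  -- a function of `L(D - P)` outside `L(D - P - Q)`
  obtain ⟨f, hfD, hfQ⟩ : ∃ f, f ∈ FunFld.L (D - Finsupp.single P 1) ∧
      f ∉ FunFld.L (D - Finsupp.single P 1 - Finsupp.single Q 1) := by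
    by_contra hne
    push Not at hne
    haveI := FF.finite_L hK (D - Finsupp.single P 1 - Finsupp.single Q 1)
    have hle := Submodule.finrank_mono hne
    have h1 := FF.ell_of_deg_large hK (D := D - Finsupp.single P 1) (by
      rw [FF.deg_sub, FF.deg_single_ac hK]; omega)
    have h2 := FF.ell_of_deg_large hK (D := D - Finsupp.single P 1 - Finsupp.single Q 1) (by
      rw [FF.deg_sub, FF.deg_sub, FF.deg_single_ac hK, FF.deg_single_ac hK]; omega)
    rw [FF.deg_sub, FF.deg_single_ac hK] at h1
    rw [FF.deg_sub, FF.deg_sub, FF.deg_single_ac hK, FF.deg_single_ac hK] at h2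
    change FunFld.ell _ ≤ FunFld.ell _ at hle
    omega
  have hf0 : f ≠ 0 := fun h => hfQ (h ▸ zero_mem _)
  have hQ : Q.1 f = WithZero.exp ((D - Finsupp.single P (1 : ℤ) : FunFld.Divisor k X.functionField) Q) := by
    refine le_antisymm (hfD Q) ?_
    by_contra hlt
    refine hfQ fun R => ?_
    rcases eq_or_ne R Q with rfl | hR
    · rw [FF.v_eq_exp _ hf0, WithZero.exp_le_exp] at hlt ⊢
      rw [Finsupp.sub_apply (D - Finsupp.single P 1), Finsupp.single_eq_same]
      omega
    · rw [Finsupp.sub_apply, Finsupp.single_eq_of_ne hR, sub_zero]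
      exact hfD R
  have hmono : ∀ R, (D - Finsupp.single P (1 : ℤ) : FunFld.Divisor k X.functionField) R ≤ D R := fun R => by
    rw [Finsupp.sub_apply, Finsupp.single_apply]
    split_ifs <;> omega
  obtain ⟨σ, hσ⟩ := exists_section hL (e := e) f fun z => by
    by_cases hz : IsClosed ({z} : Set X)
    · exact (hD z hz f).2 ((hfD _).trans (WithZero.exp_le_exp.2 (hmono _)))
    · obtain rfl := eq_generic_of_not_closed k hdim hz
      refine ⟨(f : X.presheaf.stalk (genericPoint X)) • e, ?_⟩
      exact congr($(TopCat.Presheaf.stalkSpecializes_refl L.presheaf (genericPoint X)) _)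
  have key : ∀ {z : X} (hz : IsClosed ({z} : Set X)) (g : L.presheaf.stalk z) (w : X.presheaf.stalk z),
      Function.Bijective (fun r : X.presheaf.stalk z => r • g) → L.presheaf.germ ⊤ z trivial σ = w • g →
      (placeOf k hdim z hz).1 f = (placeOf k hdim z hz).1 (algebraMap (X.presheaf.stalk z) X.functionField w) *
        WithZero.exp (D (placeOf k hdim z hz)) := by
    intro z hz g w hg hw
    obtain ⟨G, hG, hvG⟩ := exists_coord_of_gen hdim hL he hD hz hg
    have h := congrArg (spec L z) hw
    rw [spec_germ L (U := ⊤) trivial trivial, hσ, spec_smul, hG, smul_smul] at h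
    rw [← hvG, ← map_mul]
    exact congrArg _ (he.1 h)
  refine ⟨σ, fun g w hg hw => ?_, fun hne => ?_⟩
  · have hv := key hx g w hg hw
    constructor
    · intro hu
      obtain ⟨u, rfl⟩ := hu
      have h1 : P.1 (algebraMap (X.presheaf.stalk x) X.functionField (u : X.presheaf.stalk x)) = 1 := by
        refine le_antisymm ((placeOf_le_one_iff hdim hx _).2 ⟨_, rfl⟩) ?_
        have h2 : P.1 (algebraMap (X.presheaf.stalk x) X.functionField (↑u⁻¹ : X.presheaf.stalk x)) ≤ 1 :=
          (placeOf_le_one_iff hdim hx _).2 ⟨_, rfl⟩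
        calc (1 : ℤᵐ⁰) = P.1 (algebraMap (X.presheaf.stalk x) X.functionField ((u : X.presheaf.stalk x) * ↑u⁻¹)) := by
              rw [Units.mul_inv, map_one, map_one]
          _ ≤ _ := by
              rw [map_mul, map_mul]
              exact mul_le_of_le_one_right' h2
      rw [h1, one_mul] at hv
      have h3 := hfD P
      rw [hv, WithZero.exp_le_exp, Finsupp.sub_apply, Finsupp.single_eq_same] at h3
      have hPx : D (placeOf k hdim x hx) = D P := rfl
      omega
    · intro hyx hw2
      subst hyx
      have h1 := val_coe_le_exp_neg_two (k := k) hdim hx hw2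
      have h2 : P.1 f ≤ WithZero.exp (-2 : ℤ) * WithZero.exp (D P) := by
        rw [hv]; exact mul_le_mul_left h1 _
      rw [← WithZero.exp_add] at h2
      rw [show Q = P from rfl] at hQ
      rw [hQ, WithZero.exp_le_exp, Finsupp.sub_apply, Finsupp.single_eq_same] at h2
      have hPQ : D (placeOf k hdim y hx) = D P := rfl
      omega
  · obtain ⟨g, hg⟩ := ParaFLib.exists_stalk_gen hL y
    obtain ⟨w, hw⟩ := hg.2 (L.presheaf.germ ⊤ y trivial σ)
    have hv := key hy g w hg hw.symm
    have hQP : Q ≠ P := fun h => hne (placeOf_injective hdim hy hx h)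
    rw [hQ, Finsupp.sub_apply, Finsupp.single_eq_of_ne hQP, sub_zero] at hv
    have h1 : Q.1 (algebraMap (X.presheaf.stalk y) X.functionField w) = 1 :=
      (mul_eq_right₀ WithZero.exp_ne_zero).1 hv.symm
    rw [← hw]
    refine (AmpleLib.bijective_smul_iff hg w).2 ?_
    by_contra hu
    haveI := isDVR k hdim hy
    have := (IsDedekindDomain.HeightOneSpectrum.valuation_lt_one_iff_mem (K := X.functionField)
      (IsDiscreteValuationRing.maximalIdeal (X.presheaf.stalk y)) w).2 hu
    exact (lt_irrefl (1 : ℤᵐ⁰)) (h1 ▸ this)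

end Groth.Agent.RelVALib
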