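import Groth.Agent.RelVALib.EmbGen
import Groth.Agent.ProjUPLib.Chart
import Groth.Agent.AffLim.DescendRing

/-!
# The coordinate sections of a closed subscheme of projective space embed it
-/

set_option autoImplicit false
set_option backward.isDefEq.respectTransparency false
set_option backward.isDefEq.respectTransparency.types false
set_option linter.style.haveILetI false
set_option maxHeartbeats 1000000

universe u

open CategoryTheory CategoryTheory.Limits AlgebraicGeometry TopologicalSpace Opposite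
open Groth.Agent.PullbackMod Groth.Agent.DCohLib Groth.Agent.ParaFLib Groth.Agent.AmpleLib

noncomputable section

namespace Groth.Agent.RelVALib

theorem mem_of_forall_coordRatio_mem {n : ℕ} (a : Fin (n + 1))
    (A : Subring Γ(CohB1.ProjSpace n (ULift.{u} ℤ), AmpleEmb.stdOpen n (ULift.{u} ℤ) a))
    (hA : ∀ b, AmpleEmb.coordRatio n (ULift.{u} ℤ) a b ∈ A)
    (z : Γ(CohB1.ProjSpace n (ULift.{u} ℤ), AmpleEmb.stdOpen n (ULift.{u} ℤ) a)) : z ∈ A := by
  let 𝒮 := CohB1.polyGrading n (ULift.{u} ℤ)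
  let g : 𝒮 1 := AmpleEmb.coordForm n (ULift.{u} ℤ) a
  let σ := Proj.awayToSection 𝒮 g.1
  haveI : IsIso σ := (Proj.basicOpenIsoAway 𝒮 g.1 g.2 one_pos).isIso_hom
  obtain ⟨w, rfl⟩ := (ConcreteCategory.bijective_of_isIso σ).2 z
  obtain ⟨x, rfl⟩ := ProjUPLib.dehom_surjective g w
  let ψ : MvPolynomial (Fin (n + 1)) (ULift.{u} ℤ) →+* _ := σ.hom.comp (ProjUPLib.dehom g)
  show ψ x ∈ A
  induction x using MvPolynomial.induction_on with
  | C r =>
    show (ψ.comp MvPolynomial.C) r ∈ A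
    rw [show ψ.comp MvPolynomial.C = ((Int.castRingHom _).comp (ULift.ringEquiv (R := ℤ)).toRingHom) from
      RingHom.ext fun r => RingHom.congr_fun (RingHom.ext_int
        ((ψ.comp MvPolynomial.C).comp (ULift.ringEquiv (R := ℤ)).symm.toRingHom) (Int.castRingHom _)) r.down]
    exact intCast_mem _ _
  | add p q hp hq => rw [map_add]; exact add_mem hp hq
  | mul_X p b hp =>
    rw [map_mul]
    refine mul_mem hp ?_
    show σ (ProjUPLib.dehom g (AmpleEmb.coordForm n (ULift.{u} ℤ) b).1) ∈ A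
    rw [ProjUPLib.dehom_mem g _ (AmpleEmb.coordForm n (ULift.{u} ℤ) b).2]
    exact (ProjCoh.awayToSection_ratio 𝒮 g (AmpleEmb.coordForm n (ULift.{u} ℤ) b)).symm ▸ hA b

variable {X Y : Scheme.{u}}

/-- The coordinate sections, pulled back to a scheme mapping to projective space. -/
def coordPull {n : ℕ} (i : X ⟶ CohB1.ProjSpaceOver n Y) (a : Fin (n + 1)) :
    Coh.structureModule X ⟶ (Scheme.Modules.pullback i).obj (Twist.twistOver n Y 1) :=
  pullSec i (pullSec (ProjMap.toInt Y n) (AmpleEmb.coordSec n (ULift.{u} ℤ) a))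

/-- The coordinate sections of a closed subscheme of projective space over an affine scheme embed it. -/
theorem embGen_coordPull [IsAffine Y] {n : ℕ} {q : X ⟶ Y} (i : X ⟶ CohB1.ProjSpaceOver n Y) [IsClosedImmersion i]
    (hi : i ≫ CohB1.ProjSpaceOver.toBase n Y = q) : EmbGen q (coordPull i) := by
  subst hi
  haveI : IsAffineHom i := inferInstance
  have hinv := AmpleEmb.isInvertible_twistOne n (ULift.{u} ℤ)
  have hinv' := AmpleEmb.isInvertible_twistOver (Y := Y) n
  have hloc : ∀ a, CohB1.genLocus _ (coordPull i a) = i ⁻¹ᵁ AmpleEmb.overOpen a := fun a =>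
    (genLocus_pullSec i hinv' _).trans (congrArg (i ⁻¹ᵁ ·) ((genLocus_pullSec _ hinv _).trans
      (congrArg (ProjMap.toInt Y n ⁻¹ᵁ ·) (AmpleEmb.genLocus_coordSec n _ a))))
  refine ⟨fun a => ?_, fun x => ?_, fun a => ?_⟩
  · rw [hloc]
    exact (AmpleEmb.isAffineOpen_overOpen a).preimage i
  · obtain ⟨a, ha⟩ := Opens.mem_iSup.1
      ((AmpleEmb.iSup_stdOpen n (ULift.{u} ℤ)).ge (Opens.mem_top (ProjMap.toInt Y n (i x))))
    exact ⟨a, (hloc a).ge ha⟩
  suffices key : ∀ U : X.Opens, U = i ⁻¹ᵁ AmpleEmb.overOpen a → ∀ t : Fin (n + 1) → Γ(X, U),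
      (∀ b, IsRatio (coordPull i a) (coordPull i b) (t b)) → Function.Surjective (MvPolynomial.eval₂Hom
        ((i ≫ CohB1.ProjSpaceOver.toBase n Y).appLE ⊤ U (fun _ _ => trivial)).hom t) from key _ (hloc a)
  rintro U rfl t ht
  let O := AmpleEmb.overOpen (Y := Y) a
  let r : Fin (n + 1) → Γ(CohB1.ProjSpaceOver n Y, O) := fun b =>
    (ProjMap.toInt Y n).appLE _ O le_rfl (AmpleEmb.coordRatio n (ULift.{u} ℤ) a b)
  have hr : ∀ b, IsRatio (coordPull i a) (coordPull i b) (i.appLE O (i ⁻¹ᵁ O) le_rfl (r b)) := fun b =>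
    isRatio_pullSec i le_rfl (isRatio_pullSec (ProjMap.toInt Y n) le_rfl (AmpleEmb.coordRatio_smul n _ a b))
  have htr : ∀ b, t b = i.appLE O (i ⁻¹ᵁ O) le_rfl (r b) := fun b => by
    have hg : Gen (i ⁻¹ᵁ O) (resT (sec (coordPull i a)) (i ⁻¹ᵁ O)) := by
      have := AmpleEmb.gen_genLocus (isInvertible_pullback i hinv') (coordPull i a)
      exact this.res (hloc a).ge |> (fun h => by rwa [resT, res_res] at h)
    refine (hg _ le_rfl).1 ?_
    simp only [ParaFLib.res_self]
    exact (ht b).trans (hr b).symm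
  have H : IsPullback (ProjMap.toInt Y n) (CohB1.ProjSpaceOver.toBase n Y)
      (CohB1.ProjSpace.toSpec n (ULift.{u} ℤ)) (specULiftZIsTerminal.from Y) := IsPullback.of_hasPullback _ _
  have hpo := (isIso_pushoutSection_iff H (US := ⊤) (UT := ⊤)
      (UX := AmpleEmb.stdOpen n (ULift.{u} ℤ) a) (UY := O) (fun _ _ => trivial) (fun _ _ => trivial)
      (by rw [Scheme.Hom.preimage_top, inf_top_eq])).1
    (isIso_pushoutSection_of_isAffineOpen H _ _ _ (isAffineOpen_top _) (isAffineOpen_top Y)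
      (AmpleEmb.isAffineOpen_stdOpen n _ a))
  have hcl := AffLim.closure_range_eq_top hpo
  intro y
  haveI : IsAffine Y := inferInstance
  obtain ⟨z, rfl⟩ : ∃ z, i.appLE O (i ⁻¹ᵁ O) le_rfl z = y := by
    rw [← Scheme.Hom.app_eq_appLE]
    exact i.app_surjective _ (AmpleEmb.isAffineOpen_overOpen a) y
  let ev := MvPolynomial.eval₂Hom ((i ≫ CohB1.ProjSpaceOver.toBase n Y).appLE ⊤ (i ⁻¹ᵁ O) (fun _ _ => trivial)).hom t
  suffices hz : z ∈ ev.range.comap (i.appLE O (i ⁻¹ᵁ O) le_rfl).hom from hz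
  refine (Subring.closure_le (t := ev.range.comap _)).2 ?_ (hcl.ge (Subring.mem_top z))
  rintro _ (⟨w, rfl⟩ | ⟨w, rfl⟩)
  · refine mem_of_forall_coordRatio_mem a
      ((ev.range.comap (i.appLE O (i ⁻¹ᵁ O) le_rfl).hom).comap ((ProjMap.toInt Y n).appLE _ O le_rfl).hom)
      (fun b => ⟨MvPolynomial.X b, ?_⟩) w
    show ev (MvPolynomial.X b) = i.appLE O (i ⁻¹ᵁ O) le_rfl (r b)
    rw [MvPolynomial.eval₂Hom_X', htr]
  · refine ⟨MvPolynomial.C w, ?_⟩
    show ev (MvPolynomial.C w) = _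
    rw [MvPolynomial.eval₂Hom_C, ← Scheme.Hom.appLE_comp_appLE i (CohB1.ProjSpaceOver.toBase n Y) ⊤ O _
      (fun _ _ => trivial) le_rfl]
    rfl

end Groth.Agent.RelVALib
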