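import Groth.Agent.S2803
import Mathlib.AlgebraicGeometry.Morphisms.FlatDescent

/-!
# A proper morphism which is a closed immersion on a fibre is one near the fibre
-/

set_option autoImplicit false
set_option backward.isDefEq.respectTransparency false
set_option backward.isDefEq.respectTransparency.types false
set_option linter.style.haveILetI false

universe u

open CategoryTheory CategoryTheory.Limits AlgebraicGeometry TopologicalSpace

noncomputable section

namespace Groth.Agent.RelVALib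

/-- Over a field valued point where the base change is a closed immersion, the fibre is empty or a point. -/
theorem isEmpty_or_isIso_fibre {X P X' P' : Scheme.{u}} {φ : X ⟶ P} {g : X' ⟶ X} {φ' : X' ⟶ P'} {c : P' ⟶ P}
    (hsq : IsPullback g φ' φ c) [IsClosedImmersion φ'] (z : P') :
    IsEmpty (φ.fiber (c z)) ∨ IsIso (φ.fiberToSpecResidueField (c z)) := by
  let ρ := Spec.map (c.residueFieldMap z)
  have h1 : IsPullback (φ'.fiberι z) (φ'.fiberToSpecResidueField z) φ' (P'.fromSpecResidueField z) :=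
    IsPullback.of_hasPullback _ _
  have h2 : IsPullback (φ.fiberι (c z)) (φ.fiberToSpecResidueField (c z)) φ (P.fromSpecResidueField (c z)) :=
    IsPullback.of_hasPullback _ _
  have hρ : ρ ≫ P.fromSpecResidueField (c z) = P'.fromSpecResidueField z ≫ c :=
    c.SpecMap_residueFieldMap_fromSpecResidueField z
  have h3 := h1.paste_horiz hsq
  rw [← hρ] at h3
  let m : φ'.fiber z ⟶ φ.fiber (c z) :=
    h2.lift (φ'.fiberι z ≫ g) (φ'.fiberToSpecResidueField z ≫ ρ) (by rw [h3.w, Category.assoc])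
  have h4 : IsPullback m (φ'.fiberToSpecResidueField z) (φ.fiberToSpecResidueField (c z)) ρ := by
    refine IsPullback.of_right ?_ (h2.lift_snd _ _ _) h2
    rw [h2.lift_fst]
    exact h3
  haveI : Surjective ρ := ⟨fun w => ⟨IsLocalRing.closedPoint _, Subsingleton.elim _ _⟩⟩
  have hflat : (c.residueFieldMap z).hom.Flat := by
    letI := (c.residueFieldMap z).hom.toAlgebra
    show Module.Flat (P.residueField (c z)) (P'.residueField z)
    infer_instance
  haveI : Flat ρ := HasRingHomProperty.Spec_iff.2 hflat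
  rcases ((S2803.result φ' z).1 ⟨⊤, trivial, inferInstance⟩).1 with h | h
  · refine Or.inl ⟨fun w => ?_⟩
    haveI : Surjective m := MorphismProperty.of_isPullback h4.flip (inferInstance : Surjective ρ)
    obtain ⟨v, -⟩ := m.surjective w
    exact h.false v
  · exact Or.inr (MorphismProperty.of_isPullback_of_descendsAlong (P := MorphismProperty.isomorphisms Scheme.{u})
      (Q := @Surjective ⊓ @Flat ⊓ @QuasiCompact) h4.flip ⟨⟨inferInstance, inferInstance⟩, inferInstance⟩ h)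

/-- A proper morphism over `S` which is a closed immersion on a fibre is one near the fibre. -/
theorem exists_nhd_isClosedImmersion {X P S : Scheme.{u}} (φ : X ⟶ P) (q : P ⟶ S) [IsProper q] [IsProper φ]
    {K : Type u} [Field K] (pt : Spec (CommRingCat.of K) ⟶ S) {s : S} (hs : s ∈ Set.range pt)
    {X' P' : Scheme.{u}} {g : X' ⟶ X} {c : P' ⟶ P} {φ' : X' ⟶ P'} {q' : P' ⟶ Spec (CommRingCat.of K)}
    (hP : IsPullback c q' q pt) (hsq : IsPullback g φ' φ c) [IsClosedImmersion φ'] :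
    ∃ U : S.Opens, s ∈ U ∧ IsClosedImmersion (φ ∣_ (q ⁻¹ᵁ U)) := by
  let W : P.Opens := sSup {V : P.Opens | IsClosedImmersion (φ ∣_ V)}
  have hW : q ⁻¹' {s} ⊆ W := by
    intro y hy
    obtain ⟨ζ, hζ⟩ := hs
    obtain ⟨w, hw, -⟩ := Scheme.Pullback.exists_preimage_pullback y ζ
      ((show q y = s from hy).trans hζ.symm : q y = pt ζ)
    have hc : y = c (hP.isoPullback.inv w) := by
      rw [← Scheme.Hom.comp_apply, hP.isoPullback_inv_fst, hw]
    rw [hc]
    obtain ⟨V, hV, hci⟩ := (S2803.result φ (c (hP.isoPullback.inv w))).2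
      ⟨isEmpty_or_isIso_fibre hsq _, ⊤, trivial, inferInstance⟩
    exact Opens.mem_sSup.2 ⟨V, hci, hV⟩
  refine ⟨⟨(q '' (W : Set P)ᶜ)ᶜ, (q.isClosedMap _ W.2.isClosed_compl).isOpen_compl⟩,
    fun ⟨y, hy, hys⟩ => hy (hW hys), ?_⟩
  set U : S.Opens := ⟨(q '' (W : Set P)ᶜ)ᶜ, (q.isClosedMap _ W.2.isClosed_compl).isOpen_compl⟩
  have hle : q ⁻¹ᵁ U ≤ W := fun y hy => by
    by_contra h
    exact hy ⟨y, h, rfl⟩
  refine IsZariskiLocalAtTarget.of_iSup_eq_top
    (fun V : {V : P.Opens // IsClosedImmersion (φ ∣_ V)} => (q ⁻¹ᵁ U).ι ⁻¹ᵁ V.1) ?_ fun V => ?_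
  · refine eq_top_iff.2 fun y _ => ?_
    obtain ⟨V, hV, hyV⟩ := Opens.mem_sSup.1 (hle y.2)
    exact Opens.mem_iSup.2 ⟨⟨V, hV⟩, hyV⟩
  · refine (MorphismProperty.arrow_mk_iso_iff @IsClosedImmersion (morphismRestrictRestrict φ _ _)).2 ?_
    haveI := V.2
    have h : IsPullback (X.homOfLE (φ.preimage_mono (inf_le_left : V.1 ⊓ q ⁻¹ᵁ U ≤ V.1))) (φ ∣_ (V.1 ⊓ q ⁻¹ᵁ U)) (φ ∣_ V.1)
        (P.homOfLE (inf_le_left : V.1 ⊓ q ⁻¹ᵁ U ≤ V.1)) :=
      IsPullback.of_right (by rw [Scheme.homOfLE_ι, Scheme.homOfLE_ι]; exact (isPullback_morphismRestrict φ _).flip)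
        (by rw [← cancel_mono V.1.ι]; simp) (isPullback_morphismRestrict φ V.1).flip
    have h2 : IsClosedImmersion (φ ∣_ (V.1 ⊓ q ⁻¹ᵁ U)) := MorphismProperty.of_isPullback h ‹_›
    rwa [show (q ⁻¹ᵁ U).ι ''ᵁ ((q ⁻¹ᵁ U).ι ⁻¹ᵁ V.1) = V.1 ⊓ q ⁻¹ᵁ U from by
      rw [Scheme.Hom.image_preimage_eq_opensRange_inf, Scheme.Opens.opensRange_ι, inf_comm]]

end Groth.Agent.RelVALib
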