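import Groth.Agent.RelVALib.EmbGen
import Groth.Agent.RelVALib.Spread

/-!
# Very ampleness spreads from a fibre
-/

set_option autoImplicit false
set_option backward.isDefEq.respectTransparency false
set_option backward.isDefEq.respectTransparency.types false
set_option linter.style.haveILetI false

universe u

open CategoryTheory CategoryTheory.Limits AlgebraicGeometry TopologicalSpace Opposite
open Groth.Agent.PullbackMod Groth.Agent.DCohLib Groth.Agent.ParaFLib Groth.Agent.AmpleLib

noncomputable section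

namespace Groth.Agent.RelVALib

variable {X S : Scheme.{u}}

/-- The morphism of projective spaces over a morphism of bases. -/
def overMap (n : ℕ) {T : Scheme.{u}} (k : T ⟶ S) : CohB1.ProjSpaceOver n T ⟶ CohB1.ProjSpaceOver n S :=
  ProjMap.liftOver (ProjMap.toInt T n) (CohB1.ProjSpaceOver.toBase n T ≫ k)

theorem isPullback_overMap (n : ℕ) {T : Scheme.{u}} (k : T ⟶ S) :
    IsPullback (overMap n k) (CohB1.ProjSpaceOver.toBase n T) (CohB1.ProjSpaceOver.toBase n S) k := by
  refine IsPullback.of_right (h₁₂ := ProjMap.toInt S n) ?_ (ProjMap.liftOver_toBase _ _)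
    (IsPullback.of_hasPullback (CohB1.ProjSpace.toSpec n (ULift.{u} ℤ)) (specULiftZIsTerminal.from S))
  rw [overMap, ProjMap.liftOver_toInt, show k ≫ specULiftZIsTerminal.from S = specULiftZIsTerminal.from T from
    specULiftZIsTerminal.hom_ext _ _]
  exact IsPullback.of_hasPullback _ _

theorem isPullback_liftOver (n : ℕ) {f : X ⟶ S} {Z T : Scheme.{u}} {k : T ⟶ S} {k' : Z ⟶ X} {q : Z ⟶ T}
    (h : IsPullback k' q f k) (a : X ⟶ CohB1.ProjSpace n (ULift.{u} ℤ)) :
    IsPullback k' (ProjMap.liftOver (k' ≫ a) q) (ProjMap.liftOver a f) (overMap n k) := by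
  refine IsPullback.of_bot ?_ ?_ (isPullback_overMap n k)
  · rw [ProjMap.liftOver_toBase, ProjMap.liftOver_toBase]
    exact h
  · refine ProjMap.over_hom_ext ?_ ?_
    · rw [Category.assoc, Category.assoc, overMap, ProjMap.liftOver_toInt, ProjMap.liftOver_toInt,
        ProjMap.liftOver_toInt]
    · rw [Category.assoc, Category.assoc, overMap, ProjMap.liftOver_toBase, ProjMap.liftOver_toBase,
        ← Category.assoc, ProjMap.liftOver_toBase]
      exact h.w

/-- Sections embedding one fibre embed over a neighbourhood. -/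
theorem exists_nhd_veryAmple (f : X ⟶ S) [IsProper f] {P : X.Modules} (hP : PicF.IsInvertible P) {n : ℕ}
    (u : Fin (n + 1) → (Coh.structureModule X ⟶ P)) (hcov : ∀ x, ∃ a, x ∈ CohB1.genLocus P (u a))
    {K : Type u} [Field K] (pt : Spec (CommRingCat.of K) ⟶ S) {s : S} (hs : s ∈ Set.range pt)
    {X' : Scheme.{u}} {g : X' ⟶ X} {f' : X' ⟶ Spec (CommRingCat.of K)} (h : IsPullback g f' f pt)
    (hgen : EmbGen f' fun a => pullSec g (u a)) :
    ∃ U : S.Opens, s ∈ U ∧ ∀ {T Z : Scheme.{u}} (k : T ⟶ S) (k' : Z ⟶ X) (q : Z ⟶ T),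
      IsPullback k' q f k → Set.range k ⊆ U →
        RelAmple.IsRelVeryAmplePn q ((Scheme.Modules.pullback k').obj P) := by
  haveI : IsProper f' := MorphismProperty.of_isPullback h inferInstance
  obtain ⟨F, hFU, hFg, hFt⟩ := GenMorph.exists_ratioFamily hP u hcov
  let a := GenMorph.toProj (AmpleEmb.intConst X) F
  let φ := ProjMap.liftOver a f
  haveI : IsProper φ := by
    haveI : IsProper (φ ≫ CohB1.ProjSpaceOver.toBase n S) := by
      rw [ProjMap.liftOver_toBase]; infer_instance
    exact IsProper.of_comp φ (CohB1.ProjSpaceOver.toBase n S)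
  -- the fibre
  have hU : ∀ b, CohB1.genLocus _ (pullSec g (u b)) ≤ g ⁻¹ᵁ F.U b := fun b => by
    rw [genLocus_pullSec g hP, hFU]
  let t : ∀ b, Fin (n + 1) → Γ(X', CohB1.genLocus _ (pullSec g (u b))) := fun b c =>
    g.appLE (F.U b) _ (hU b) (F.t b c)
  have ht : ∀ b c, IsRatio (pullSec g (u b)) (pullSec g (u c)) (t b c) := fun b c =>
    isRatio_pullSec g (hU b) (hFt b c)
  let F' := AmpleEmb.familyOfSections (isInvertible_pullback g hP) (fun b => pullSec g (u b)) hgen.affine hgen.cover t ht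
  have hci : IsClosedImmersion (ProjMap.liftOver (g ≫ a) f') := by
    have := hgen.isClosedImmersion (isInvertible_pullback g hP) t ht
    rwa [AmpleEmb.toProjOver, toProj_pullback g F F' hU fun _ _ => rfl] at this
  obtain ⟨U, hsU, hUci⟩ := exists_nhd_isClosedImmersion φ (CohB1.ProjSpaceOver.toBase n S) pt hs
    (isPullback_overMap n pt) (isPullback_liftOver n h a)
  refine ⟨U, hsU, fun {T Z} k k' q hk hkU => ?_⟩
  set W := CohB1.ProjSpaceOver.toBase n S ⁻¹ᵁ U
  have hr : Set.range (overMap n k) ⊆ Set.range W.ι := by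
    rw [Scheme.Opens.range_ι]
    rintro _ ⟨z, rfl⟩
    show CohB1.ProjSpaceOver.toBase n S (overMap n k z) ∈ U
    rw [← Scheme.Hom.comp_apply, (isPullback_overMap n k).w, Scheme.Hom.comp_apply]
    exact hkU ⟨_, rfl⟩
  let l := IsOpenImmersion.lift W.ι (overMap n k) hr
  have hl : l ≫ W.ι = overMap n k := IsOpenImmersion.lift_fac _ _ _
  have sq := isPullback_liftOver n hk a
  rw [← hl] at sq
  haveI : IsClosedImmersion (φ ∣_ W) := hUci
  have sqW := (isPullback_morphismRestrict φ W).flip
  let l' := sqW.lift k' (ProjMap.liftOver (k' ≫ a) q ≫ l) (by rw [Category.assoc]; exact sq.w)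
  have sq' : IsPullback l' (ProjMap.liftOver (k' ≫ a) q) (φ ∣_ W) l :=
    IsPullback.of_right (by rw [sqW.lift_fst]; exact sq) (sqW.lift_snd _ _ _) sqW
  haveI : IsClosedImmersion (ProjMap.liftOver (k' ≫ a) q) := MorphismProperty.of_isPullback sq' ‹_›
  obtain ⟨θ⟩ := GenMorph.nonempty_iso_pullback_twistOne (AmpleEmb.intConst X) F u hFg hFt
  refine ⟨n, ProjMap.liftOver (k' ≫ a) q, inferInstance, ProjMap.liftOver_toBase _ _, ⟨?_⟩⟩
  exact (Scheme.Modules.pullback k').mapIso θ ≪≫ (Scheme.Modules.pullbackComp k' a).app _ ≪≫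
    (Scheme.Modules.pullbackCongr (ProjMap.liftOver_toInt (k' ≫ a) q).symm).app _ ≪≫
    ((Scheme.Modules.pullbackComp (ProjMap.liftOver (k' ≫ a) q) (ProjMap.toInt T n)).app _).symm

end Groth.Agent.RelVALib
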