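import Groth.Agent.RelVALib.Fibre
import Groth.Agent.RelVALib.Curve
import Groth.Agent.CurveFamLib.Omega
import Groth.Agent.DegDevLib.BC

/-!
# Modules of fibre degree above `2g` on a family of curves are relatively very ample
-/

set_option autoImplicit false
set_option backward.isDefEq.respectTransparency false
set_option backward.isDefEq.respectTransparency.types false
set_option backward.defeqAttrib.useBackward true
set_option linter.style.haveILetI false
set_option maxHeartbeats 2000000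

universe u

open CategoryTheory CategoryTheory.Limits AlgebraicGeometry TopologicalSpace Opposite TensorProduct
open Groth.Agent.PullbackMod Groth.Agent.DCohLib Groth.Agent.ParaFLib Groth.Agent.AmpleLib

noncomputable section

namespace Groth.Agent.RelVALib

variable {X S : Scheme.{u}}

/-- The sections over a field valued point are spanned by sections over an affine neighbourhood. -/
theorem exists_spanning_lift (f : X ⟶ S) [IsProper f] [LocallyOfFinitePresentation f] [Flat f] {L : X.Modules}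
    (hL : PicF.IsInvertible L) (s : S) (h1 : Subsingleton (CohIII.fiberH f L s 1))
    {K : Type u} [Field K] (pt : Spec (CommRingCat.of K) ⟶ S) (hs : ∀ ζ, pt ζ = s)
    {X' : Scheme.{u}} {g : X' ⟶ X} [X'.Over (Spec (CommRingCat.of K))]
    (h : IsPullback g (X' ↘ Spec (CommRingCat.of K)) f pt) :
    ∃ (V : S.Opens) (_ : s ∈ V) (le : (⊤ : X'.Opens) ≤ g ⁻¹ᵁ (f ⁻¹ᵁ V)) (n : ℕ)
      (τ : Fin (n + 1) → Γ(L, f ⁻¹ᵁ V)), ∀ σ : Γ((Scheme.Modules.pullback g).obj L, ⊤),
        ∃ c : Fin (n + 1) → K,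
          σ = lin (X' ↘ Spec (CommRingCat.of K)) (fun a => secHom _ (pullMap g L le (τ a))) c := by
  classical
  set f' := X' ↘ Spec (CommRingCat.of K)
  haveI : IsProper f' := MorphismProperty.of_isPullback h inferInstance
  obtain ⟨hq, hfp⟩ := isQCoh_and_isFP_of_isFinLocFree L (CurveLib.isFinLocFree_of_isInvertible hL)
  haveI := hq
  obtain ⟨V₀, D, hsV₀⟩ := GenBCLib.exists_dat_at hfp
    (TildePerf.isFlatOver_of_isFinLocFree f (CurveLib.isFinLocFree_of_isInvertible hL)) s
  obtain ⟨a, ha, -, hsp, -⟩ := D.exists_vanish hsV₀ h1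
  haveI : Coh.IsQCoh ((Scheme.Modules.pullback g).obj L) := PullbackMod.isQCoh_pullback _ L
  haveI := GenBCLib.isIso_bc0 h L fun z => ⟨V₀, D, a, (hs z).symm ▸ ha, hsp⟩
  let bc := CohBC.bc0 f pt f' g h.w L
  let M := (Scheme.Modules.pushforward f).obj L
  haveI : Coh.IsQCoh M := QCohLib.isQCoh_pushforward L f
  obtain ⟨_, ⟨V : S.Opens, (hV : IsAffineOpen V), rfl⟩, hsV, -⟩ :=
    S.isBasis_affineOpens.exists_subset_of_mem_open (Set.mem_univ s) isOpen_univ
  have e : (⊤ : (Spec (CommRingCat.of K)).Opens) ≤ pt ⁻¹ᵁ V := fun z _ => show pt z ∈ V from (hs z).symm ▸ hsV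
  have le : (⊤ : X'.Opens) ≤ g ⁻¹ᵁ (f ⁻¹ᵁ V) := by
    intro z _
    show f (g z) ∈ V
    rw [← Scheme.Hom.comp_apply, h.w, Scheme.Hom.comp_apply]
    exact e trivial
  let N := (Scheme.Modules.pullback g).obj L
  letI : Module K Γ(N, ⊤) := Module.compHom _ (ProjUP.toGlobal f')
  let rng : Set Γ(N, ⊤) := Set.range fun t : Γ(L, f ⁻¹ᵁ V) => pullMap g L le t
  have hmem : ∀ σ : Γ(N, ⊤), σ ∈ Submodule.span K rng := by
    intro σ
    obtain ⟨x, hx⟩ := GenBCLib.surjective_top_of_epi bc
      (show Γ((Scheme.Modules.pushforward f').obj N, ⊤) from σ)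
    letI : Algebra Γ(S, V) Γ(Spec (CommRingCat.of K), ⊤) := (pt.appLE V ⊤ e).hom.toAlgebra
    letI := Module.compHom Γ((Scheme.Modules.pullback pt).obj M, ⊤) (pt.appLE V ⊤ e).hom
    haveI : IsScalarTower Γ(S, V) Γ(Spec (CommRingCat.of K), ⊤) Γ((Scheme.Modules.pullback pt).obj M, ⊤) :=
      .of_algebraMap_smul fun _ _ => rfl
    let E := (isBaseChange_pullMapL pt M hV (isAffineOpen_top _) e).equiv
    suffices key : ∀ x, (show Γ(N, ⊤) from bc.app ⊤ x) ∈ Submodule.span K rng from hx ▸ key x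
    intro x
    obtain ⟨z, rfl⟩ := E.surjective x
    induction z using TensorProduct.induction_on with
    | zero => rw [map_zero, map_zero]; exact zero_mem _
    | tmul r t =>
      have hE : E (r ⊗ₜ t) = r • pullMap pt M e t := IsBaseChange.equiv_tmul _ _ _
      rw [hE, Scheme.Modules.Hom.app_smul, GenBCLib.bc0_pullMap h.w L e le t]
      have hr : f'.appTop r = ProjUP.toGlobal f' ((Scheme.ΓSpecIso (CommRingCat.of K)).hom r) :=
        congrArg f'.appTop (Iso.hom_inv_id_apply (Scheme.ΓSpecIso (CommRingCat.of K)) r).symm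
      show f'.appTop r • pullMap g L le t ∈ Submodule.span K rng
      rw [hr]
      exact Submodule.smul_mem (Submodule.span K rng) ((Scheme.ΓSpecIso (CommRingCat.of K)).hom r)
        (Submodule.subset_span ⟨t, rfl⟩)
    | add z w hz hw => rw [map_add, map_add]; exact add_mem hz hw
  haveI : Module.Finite K Γ(N, ⊤) := by
    haveI := EulerIneqLib.isNoetherian_proper (X := X') K
    haveI := EulerIneqLib.finite_HH (k := K) (CurveLib.isCoh_of_isInvertible (isInvertible_pullback g hL)) 0
    let eN : Coh.HH X' N 0 ≃ₗ[K] Γ(N, ⊤) :=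
      { (CurveLib.secOf N) with map_smul' := fun r c => CurveLib.secOf_smul (k := K) _ r c }
    exact Module.Finite.equiv eN
  obtain ⟨B, hB⟩ := (Module.Finite.fg_top : (⊤ : Submodule K Γ(N, ⊤)).FG)
  choose T hTr hTm using fun b : Γ(N, ⊤) => Submodule.mem_span_finite_of_mem_span (hmem b)
  let U : Finset Γ(N, ⊤) := B.biUnion T
  have hU : ∀ w ∈ U, ∃ t : Γ(L, f ⁻¹ᵁ V), pullMap g L le t = w := fun w hw => by
    obtain ⟨b, -, hwb⟩ := Finset.mem_biUnion.1 hw
    exact hTr b hwb
  choose t ht using hU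
  let τ : Fin (U.card + 1) → Γ(L, f ⁻¹ᵁ V) :=
    Fin.cons 0 fun i => t (U.equivFin.symm i).1 (U.equivFin.symm i).2
  refine ⟨V, hsV, le, U.card, τ, fun σ => ?_⟩
  have h2 : σ ∈ Submodule.span K (Set.range fun i => pullMap g L le (τ i)) := by
    refine Submodule.span_le.2 ?_ (hB.ge (Submodule.mem_top (x := σ)))
    intro b hb
    refine Submodule.span_mono (fun w hw => ?_) (hTm b)
    have hwU : w ∈ U := Finset.mem_biUnion.2 ⟨b, hb, hw⟩
    refine ⟨(U.equivFin ⟨w, hwU⟩).succ, ?_⟩
    show pullMap g L le (τ _) = w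
    rw [show τ (U.equivFin ⟨w, hwU⟩).succ = t w hwU by simp [τ]]
    exact ht w hwU
  obtain ⟨c, hc⟩ := Submodule.mem_span_range_iff_exists_fun K |>.1 h2
  refine ⟨c, hc.symm.trans (Finset.sum_congr rfl fun i _ => ?_)⟩
  rw [sec_secHom]
  rfl

/-- The fibre over its residue field. -/
local instance fibreOverOf {C S : Scheme.{u}} (f : C ⟶ S) (s : S) :
    (f.fiber s).Over (Spec (CommRingCat.of (S.residueField s))) := ⟨f.fiberToSpecResidueField s⟩

/-- On a family of curves a module of degree above `2g` on a fibre is very ample near it. -/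
theorem exists_affine_nhd_curve (f : X ⟶ S) [IsProper f] [Smooth f] [GeometricallyConnected f]
    (hdim : ∀ s : S, topologicalKrullDim ↥(f.fiber s) = 1) {L : X.Modules} (hL : PicF.IsInvertible L) (s : S)
    (hdeg : 2 * (Curv2.genus (S.residueField s) (f.fiber s) : ℤ) + 1 ≤
      Curv2.deg (S.residueField s) (f.fiber s) ((Scheme.Modules.pullback (f.fiberι s)).obj L) 1) :
    ∃ U : S.Opens, IsAffineOpen U ∧ s ∈ U ∧
      RelAmple.IsRelVeryAmplePn (f ∣_ U) (L.restrict (f ⁻¹ᵁ U).ι) := by
  let k : Type u := S.residueField s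
  let Y := f.fiber s
  obtain ⟨hp, hsm, hi, h0⟩ := CurveFamLib.fibre_setup f s
  haveI := hp; haveI := hsm; haveI := hi
  haveI := EulerIneqLib.isNoetherian_proper (X := Y) k
  haveI := VBLib.isRegCurve_of_smooth k (X := Y) (hdim s).le
  have hLs := isInvertible_pullback (f.fiberι s) hL
  haveI := InvExt.isQCoh_of_isInvertible hLs
  have h1 : Subsingleton (CohIII.fiberH f L s 1) :=
    (CurveFF.subsingleton_H1 (k := S.residueField s) (X := f.fiber s) (hdim s) h0 hLs (by omega) :
      Subsingleton (Coh.HH (f.fiber s) ((Scheme.Modules.pullback (f.fiberι s)).obj L) 1))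
  let K := AlgebraicClosure k
  obtain ⟨hsK, hiK, hrK, hdK⟩ := CurveFF.setup_bc k (X := Y) (hdim s) h0 K
  haveI := hiK; haveI := hrK
  let ψ : Spec (CommRingCat.of K) ⟶ Spec (CommRingCat.of k) := Spec.map (CommRingCat.ofHom (algebraMap k K))
  have h : IsPullback (Curv2.bcFst k Y K ≫ f.fiberι s) (Curv2.bc k Y K ↘ Spec (CommRingCat.of K)) f
      (ψ ≫ S.fromSpecResidueField s) :=
    (IsPullback.of_hasPullback (Y ↘ Spec (CommRingCat.of k)) ψ).paste_horiz
      (IsPullback.of_hasPullback f (S.fromSpecResidueField s))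
  have hpt : ∀ ζ, (ψ ≫ S.fromSpecResidueField s) ζ = s := fun ζ => by
    rw [Scheme.Hom.comp_apply]; exact S.fromSpecResidueField_apply s _
  haveI : IsProper (Curv2.bc k Y K ↘ Spec (CommRingCat.of K)) := MorphismProperty.of_isPullback h inferInstance
  obtain ⟨V, hsV, le, n, τ, hτ⟩ := exists_spanning_lift f hL s h1 _ hpt h
  refine exists_affine_nhd_veryAmple f hL hsV τ _ hpt h le (embGen_of_span hdK (isInvertible_pullback _ hL) ?_ _ hτ)
  have hdb := DegDevLib.deg_bc (k := k) (X := Y) (k' := K) ((Scheme.Modules.pullback (f.fiberι s)).obj L) 1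
  have hgb := CurveFF.genus_bc k Y K
  have hiso := CurveLib.deg_iso (k := K)
    ((Scheme.Modules.pullbackComp (Curv2.bcFst k Y K) (f.fiberι s)).app L).symm 1
  refine le_trans (le_of_eq ?_) ((hdeg.trans hdb.ge).trans hiso.ge)
  exact congrArg (fun m : ℕ => 2 * (m : ℤ) + 1) hgb

/-- A module of degree above `2g` on all fibres of a family of curves is relatively very ample. -/
theorem isRelVeryAmple_curve (f : X ⟶ S) [IsProper f] [Smooth f] [GeometricallyConnected f]
    (hdim : ∀ s : S, topologicalKrullDim ↥(f.fiber s) = 1) {L : X.Modules} (hL : PicF.IsInvertible L)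
    (hdeg : ∀ s : S, 2 * (Curv2.genus (S.residueField s) (f.fiber s) : ℤ) + 1 ≤
      Curv2.deg (S.residueField s) (f.fiber s) ((Scheme.Modules.pullback (f.fiberι s)).obj L) 1) :
    RelProj.IsRelVeryAmple f L := by
  choose U hU hsU hva using fun s => exists_affine_nhd_curve f hdim hL s (hdeg s)
  exact ProjBundleLib.isRelVeryAmple_of_pn_cover hL U
    (eq_top_iff.2 fun s _ => Opens.mem_iSup.2 ⟨s, hsU s⟩) hva

end Groth.Agent.RelVALib
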