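import Groth.Agent.RelVALib.Lift
import Groth.Agent.RelVALib.Immersion
import Groth.Agent.GenSeesawLib.Near

/-!
# A module very ample on a fibre without higher cohomology is very ample near the fibre
-/

set_option autoImplicit false
set_option backward.isDefEq.respectTransparency false
set_option backward.isDefEq.respectTransparency.types false
set_option backward.defeqAttrib.useBackward true
set_option linter.style.haveILetI false
set_option maxHeartbeats 1000000

universe u

open CategoryTheory CategoryTheory.Limits AlgebraicGeometry TopologicalSpace Opposite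
open Groth.Agent.PullbackMod Groth.Agent.DCohLib Groth.Agent.ParaFLib Groth.Agent.AmpleLib

noncomputable section

namespace Groth.Agent.RelVALib

variable {X S : Scheme.{u}}

/-- Sections over the residue field all lift, up to a unit, to sections over an affine neighbourhood. -/
theorem exists_lift_residue (f : X ⟶ S) [IsProper f] [LocallyOfFinitePresentation f] [Flat f] {L : X.Modules}
    (hL : PicF.IsInvertible L) (s : S) (h1 : Subsingleton (CohIII.fiberH f L s 1)) {ι : Type} [Fintype ι]
    (σ : ι → Γ((Scheme.Modules.pullback (f.fiberι s)).obj L, ⊤)) :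
    ∃ (V : S.Opens) (_ : s ∈ V) (le : (⊤ : (f.fiber s).Opens) ≤ f.fiberι s ⁻¹ᵁ (f ⁻¹ᵁ V))
      (τ : ι → Γ(L, f ⁻¹ᵁ V)) (β : Γ(f.fiber s, ⊤)), IsUnit β ∧
        ∀ a, pullMap (f.fiberι s) L le (τ a) = β • σ a := by
  classical
  haveI : Coh.IsQCoh L := InvExt.isQCoh_of_isInvertible hL
  haveI := GenSeesawLib.isIso_bc0_fibre f (CurveLib.isFinLocFree_of_isInvertible hL) s h1
  let M := (Scheme.Modules.pushforward f).obj L
  haveI : Coh.IsQCoh M := QCohLib.isQCoh_pushforward L f
  let g := S.fromSpecResidueField s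
  let g' := f.fiberι s
  let f' := f.fiberToSpecResidueField s
  let bc := CohBC.bc0 f g f' g' (f.fiber_fac s) L
  choose x hx using fun a => GenBCLib.surjective_top_of_epi bc
    (show Γ((Scheme.Modules.pushforward f').obj ((Scheme.Modules.pullback g').obj L), ⊤) from σ a)
  obtain ⟨_, ⟨V : S.Opens, (hV : IsAffineOpen V), rfl⟩, hsV, -⟩ :=
    S.isBasis_affineOpens.exists_subset_of_mem_open (Set.mem_univ s) isOpen_univ
  let e := GenBCLib.le_preimage_fromSpecResidueField hsV
  choose b t hb ht using fun a => GenSeesawLib.exists_smul_eq_pullMap (M := M) hV hsV (x a)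
  have le : f' ⁻¹ᵁ ⊤ ≤ g' ⁻¹ᵁ (f ⁻¹ᵁ V) := by
    intro z _
    show f (g' z) ∈ V
    rw [← Scheme.Hom.comp_apply, f.fiber_fac s, Scheme.Hom.comp_apply]
    exact e trivial
  let τ : ι → Γ(L, f ⁻¹ᵁ V) := fun a =>
    show Γ(M, V) from (∏ c ∈ Finset.univ.erase a, b c) • (show Γ(M, V) from t a)
  refine ⟨V, hsV, le, τ, f'.app ⊤ (g.appLE V ⊤ e (∏ c, b c)), ?_, fun a => ?_⟩
  · refine IsUnit.map (f'.app ⊤).hom ?_
    rw [map_prod]
    exact IsUnit.prod_iff.2 fun c _ => hb c
  · have h3 : pullMap g M e (show Γ(M, V) from τ a) = g.appLE V ⊤ e (∏ c, b c) • x a := by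
      show pullMap g M e ((∏ c ∈ Finset.univ.erase a, b c) • _) = _
      rw [pullMap_smul, ← ht a, smul_smul, ← map_mul, Finset.prod_erase_mul _ _ (Finset.mem_univ a)]
    have h2 := congrArg (bc.app ⊤) h3
    rw [GenBCLib.bc0_pullMap (f.fiber_fac s) L e le (τ a), Scheme.Modules.Hom.app_smul, hx a] at h2
    exact h2

/-- A module very ample on a fibre with vanishing `H¹` is very ample near the fibre. -/
theorem exists_affine_nhd_of_fibre (f : X ⟶ S) [IsProper f] [LocallyOfFinitePresentation f] [Flat f]
    {L : X.Modules} (hL : PicF.IsInvertible L) (s : S) (h1 : Subsingleton (CohIII.fiberH f L s 1))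
    (hva : RelAmple.IsRelVeryAmplePn (f.fiberToSpecResidueField s) ((Scheme.Modules.pullback (f.fiberι s)).obj L)) :
    ∃ U : S.Opens, IsAffineOpen U ∧ s ∈ U ∧
      RelAmple.IsRelVeryAmplePn (f ∣_ U) (L.restrict (f ⁻¹ᵁ U).ι) := by
  obtain ⟨n, i, hi, hif, ⟨θ⟩⟩ := hva
  have h : IsPullback (f.fiberι s) (f.fiberToSpecResidueField s) f (S.fromSpecResidueField s) :=
    IsPullback.of_hasPullback f (S.fromSpecResidueField s)
  haveI : IsProper (f.fiberToSpecResidueField s) := MorphismProperty.of_isPullback h inferInstance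
  haveI : IsProper (i ≫ CohB1.ProjSpaceOver.toBase n (Spec (S.residueField s))) := by
    rw [show i ≫ CohB1.ProjSpaceOver.toBase n (Spec (S.residueField s)) = f.fiberToSpecResidueField s from hif]
    infer_instance
  haveI := IsProper.of_comp i (CohB1.ProjSpaceOver.toBase n (Spec (S.residueField s)))
  haveI : IsClosedImmersion i := (IsClosedImmersion.iff_isProper_and_mono _).2 ⟨inferInstance, inferInstance⟩
  obtain ⟨V, hsV, le, τ, β, hβ, hτ⟩ :=
    exists_lift_residue f hL s h1 (fun a => θ.inv.app ⊤ (sec (coordPull i a)))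
  refine exists_affine_nhd_veryAmple f hL hsV τ (K := S.residueField s) (S.fromSpecResidueField s)
    (fun ζ => S.fromSpecResidueField_apply s ζ) h le ?_
  refine (embGen_coordPull i hif).congr (isInvertible_pullback i (AmpleEmb.isInvertible_twistOver n))
    (isInvertible_pullback _ hL) θ.symm hβ fun a => ?_
  rw [sec_secHom, hτ a]
  rfl

end Groth.Agent.RelVALib
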