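import Groth.Agent.RelVALib.Core
import Groth.Agent.GenBCLib.PullOn
import Groth.Agent.BCLib.TrivNhd
import Groth.Agent.ProjBundleLib.PnTwist

/-!
# Very ampleness near a fibre from sections defined near the fibre
-/

set_option autoImplicit false
set_option backward.isDefEq.respectTransparency false
set_option backward.isDefEq.respectTransparency.types false
set_option linter.style.haveILetI false
set_option maxHeartbeats 1000000

universe u

open CategoryTheory CategoryTheory.Limits AlgebraicGeometry TopologicalSpace Opposite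
open Groth.Agent.PullbackMod Groth.Agent.DCohLib Groth.Agent.ParaFLib Groth.Agent.AmpleLib

noncomputable section

namespace Groth.Agent.RelVALib

variable {X S : Scheme.{u}}

theorem sec_pullSec_secHom {X₁ X' : Scheme.{u}} (ι : X₁ ⟶ X) (g₁ : X' ⟶ X₁) (L : X.Modules) {W : X.Opens}
    (le : (⊤ : X'.Opens) ≤ (g₁ ≫ ι) ⁻¹ᵁ W) (le₁ : (⊤ : X₁.Opens) ≤ ι ⁻¹ᵁ W) (τ : Γ(L, W)) :
    sec (secHom _ (pullMap (g₁ ≫ ι) L le τ)) =
      ((Scheme.Modules.pullbackComp g₁ ι).hom.app L).app ⊤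
        (sec (pullSec g₁ (secHom _ (pullMap ι L le₁ τ)))) := by
  rw [sec_secHom, sec_pullSec, sec_secHom]
  exact (GenBCLib.pullMap_comp g₁ ι L le₁ (fun _ _ => trivial) le τ).symm

/-- Sections over `f ⁻¹ V` whose pullbacks embed a fibre make the module very ample near the fibre. -/
theorem exists_affine_nhd_veryAmple (f : X ⟶ S) [IsProper f] {L : X.Modules} (hL : PicF.IsInvertible L)
    {V : S.Opens} {s : S} (hsV : s ∈ V) {n : ℕ} (τ : Fin (n + 1) → Γ(L, f ⁻¹ᵁ V))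
    {K : Type u} [Field K] (pt : Spec (CommRingCat.of K) ⟶ S) (hs : ∀ ζ, pt ζ = s)
    {X' : Scheme.{u}} {g : X' ⟶ X} {f' : X' ⟶ Spec (CommRingCat.of K)} (h : IsPullback g f' f pt)
    (le : (⊤ : X'.Opens) ≤ g ⁻¹ᵁ (f ⁻¹ᵁ V))
    (hgen : EmbGen f' fun a => secHom _ (pullMap g L le (τ a))) :
    ∃ U : S.Opens, IsAffineOpen U ∧ s ∈ U ∧
      RelAmple.IsRelVeryAmplePn (f ∣_ U) (L.restrict (f ⁻¹ᵁ U).ι) := by
  haveI := InvExt.isQCoh_of_isInvertible hL
  have hrange : s ∈ Set.range pt := ⟨IsLocalRing.closedPoint K, hs _⟩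
  let G : X.Opens := sSup {O | ∃ (a : Fin (n + 1)) (hle : O ≤ f ⁻¹ᵁ V),
    Gen O (L.presheaf.map (homOfLE hle).op (τ a))}
  have hG : ∀ x, f x = s → x ∈ G := by
    intro x hx
    obtain ⟨ζ, hζ⟩ := hrange
    obtain ⟨w, hw, -⟩ := Scheme.Pullback.exists_preimage_pullback x ζ (hx.trans hζ.symm : f x = pt ζ)
    obtain ⟨z, rfl⟩ : ∃ z, g z = x :=
      ⟨h.isoPullback.inv w, by rw [← Scheme.Hom.comp_apply, h.isoPullback_inv_fst, hw]⟩
    obtain ⟨a, ha⟩ := hgen.cover z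
    rw [mem_genLocus_iff (isInvertible_pullback g hL), sec_secHom,
      ← pullStalk_germ' g L z (show g z ∈ f ⁻¹ᵁ V from le (Set.mem_univ z)) (W' := ⊤) trivial le] at ha
    obtain ⟨e, he⟩ := exists_stalk_gen hL (g z)
    obtain ⟨b, hb⟩ := he.2 (L.presheaf.germ (f ⁻¹ᵁ V) (g z) (le (Set.mem_univ z)) (τ a))
    change b • e = _ at hb
    rw [← hb, pullStalk_smul, bijective_smul_iff (bijective_pullStalk g z he)] at ha
    have hbij : Function.Bijective fun r : X.presheaf.stalk (g z) =>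
        r • L.presheaf.germ (f ⁻¹ᵁ V) (g z) (le (Set.mem_univ z)) (τ a) := by
      rw [← hb, bijective_smul_iff he]
      exact isUnit_of_map_unit (g.stalkMap z).hom b ha
    obtain ⟨O, hO, hzO, hOg⟩ := AmpleEmb.gen_near_of_bijective_germ hL (τ a) _ hbij
    exact Opens.mem_sSup.2 ⟨O, ⟨a, hO, hOg⟩, hzO⟩
  obtain ⟨U₀, hsU₀, hU₀⟩ := BCLib.exists_open_preimage_le f G s hG
  obtain ⟨_, ⟨V₁ : S.Opens, hV₁, rfl⟩, hsV₁, hV₁le⟩ :=
    S.isBasis_affineOpens.exists_subset_of_mem_open (show s ∈ U₀ ⊓ V from ⟨hsU₀, hsV⟩) (U₀ ⊓ V).2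
  let ι := (f ⁻¹ᵁ V₁).ι
  let q := f ∣_ V₁
  let P := (Scheme.Modules.pullback ι).obj L
  have le₁ : (⊤ : (f ⁻¹ᵁ V₁).toScheme.Opens) ≤ ι ⁻¹ᵁ (f ⁻¹ᵁ V) := fun x _ => (hV₁le x.2).2
  let u : Fin (n + 1) → (Coh.structureModule _ ⟶ P) := fun a => secHom P (pullMap ι L le₁ (τ a))
  have hcov : ∀ x, ∃ a, x ∈ CohB1.genLocus P (u a) := by
    intro x
    obtain ⟨O, ⟨a, hle, hO⟩, hxO⟩ := Opens.mem_sSup.1 (hU₀ (show ι x ∈ f ⁻¹ᵁ U₀ from (hV₁le x.2).1))
    refine ⟨a, ?_⟩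
    rw [mem_genLocus_iff (isInvertible_pullback ι hL), sec_secHom,
      ← pullStalk_germ' ι L x (show ι x ∈ f ⁻¹ᵁ V from hle hxO) (W' := ⊤) trivial le₁]
    refine bijective_pullStalk ι x ?_
    have := hO.bijective_germ _ hxO
    rwa [TopCat.Presheaf.germ_res_apply] at this
  let pt₁ : Spec (CommRingCat.of K) ⟶ V₁ := IsOpenImmersion.lift V₁.ι pt (by
    rw [Scheme.Opens.range_ι]; rintro _ ⟨ζ, rfl⟩; rw [hs ζ]; exact hsV₁)
  have hpt₁ : pt₁ ≫ V₁.ι = pt := IsOpenImmersion.lift_fac _ _ _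
  have sq := (isPullback_morphismRestrict f V₁).flip
  let g₁ := sq.lift g (f' ≫ pt₁) (by rw [Category.assoc, hpt₁]; exact h.w)
  have hg₁ : g₁ ≫ ι = g := sq.lift_fst _ _ _
  have h₁ : IsPullback g₁ f' q pt₁ := IsPullback.of_right (by rw [hg₁, hpt₁]; exact h) (sq.lift_snd _ _ _) sq
  let θ : (Scheme.Modules.pullback g).obj L ≅ (Scheme.Modules.pullback g₁).obj P :=
    (Scheme.Modules.pullbackCongr hg₁.symm).app L ≪≫ ((Scheme.Modules.pullbackComp g₁ ι).app L).symm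
  have hgen₁ : EmbGen f' fun a => pullSec g₁ (u a) := by
    refine hgen.congr (isInvertible_pullback g hL) (isInvertible_pullback g₁ (isInvertible_pullback ι hL))
      θ (β := 1) isUnit_one fun a => ?_
    have hle : (⊤ : X'.Opens) ≤ (g₁ ≫ ι) ⁻¹ᵁ (f ⁻¹ᵁ V) := by rw [hg₁]; exact le
    rw [one_smul, sec_secHom]
    show _ = ((Scheme.Modules.pullbackComp g₁ ι).inv.app L).app ⊤
      (((Scheme.Modules.pullbackCongr hg₁.symm).hom.app L).app ⊤ (pullMap g L le (τ a)))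
    rw [GenBCLib.pullMap_congr hg₁.symm L le hle, ← sec_secHom (pullMap (g₁ ≫ ι) L hle (τ a)),
      sec_pullSec_secHom ι g₁ L hle le₁]
    exact (congr($((Scheme.Modules.pullbackComp g₁ ι).hom_inv_id_app L).app ⊤ _)).symm
  obtain ⟨U₁, hsU₁, hva⟩ := exists_nhd_veryAmple q (isInvertible_pullback ι hL) u hcov pt₁
    (s := pt₁ (IsLocalRing.closedPoint K)) ⟨_, rfl⟩ h₁ hgen₁
  obtain ⟨_, ⟨U : S.Opens, hU, rfl⟩, hsU, hUle⟩ :=
    S.isBasis_affineOpens.exists_subset_of_mem_open (show s ∈ V₁.ι ''ᵁ U₁ from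
      ⟨_, hsU₁, (congr($hpt₁ (IsLocalRing.closedPoint K))).trans (hs _)⟩) (V₁.ι ''ᵁ U₁).2
  have hUV : U ≤ V₁ := fun y hy => by
    obtain ⟨z, -, rfl⟩ := hUle hy
    exact z.2
  have sq₂ : IsPullback (X.homOfLE (f.preimage_mono hUV)) (f ∣_ U) q (S.homOfLE hUV) :=
    IsPullback.of_right (by rw [Scheme.homOfLE_ι, Scheme.homOfLE_ι]; exact (isPullback_morphismRestrict f U).flip)
      (by rw [← cancel_mono V₁.ι]; simp [q]) (isPullback_morphismRestrict f V₁).flip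
  have := hva (S.homOfLE hUV) (X.homOfLE (f.preimage_mono hUV)) (f ∣_ U) sq₂ (by
    rintro _ ⟨y, rfl⟩
    obtain ⟨z, hz, hzy⟩ := hUle y.2
    have : S.homOfLE hUV y = z := Subtype.ext ((congr($(S.homOfLE_ι hUV) y)).trans hzy.symm)
    rwa [this])
  refine ⟨U, hU, hsU, AmpleEmb.isRelVeryAmplePn_of_iso ?_ this⟩
  exact (Scheme.Modules.pullbackComp (X.homOfLE (f.preimage_mono hUV)) ι).app L ≪≫
    (Scheme.Modules.pullbackCongr (X.homOfLE_ι (f.preimage_mono hUV))).app L ≪≫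
    ((Scheme.Modules.restrictFunctorIsoPullback _).app L).symm

end Groth.Agent.RelVALib
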